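import Mathlib

/-!
# Decompositions of a strongly closed module by Suzuki components

`N` acts irreducibly on the elementary abelian `2`-group `A` and transitively on a set of pairs
`(V p, R p)` of complements; a torus element fixes `R p` pointwise and is transitive on the
nontrivial elements of `V p`. If `R p` and `R q` meet only for orthogonal pairs, then `A` is too
large for two blocks and any two distinct pairs are orthogonal.
-/

set_option autoImplicit false

namespace Cfsg.Agent.ThreePrime56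

open MulAction Subgroup

/-- The abstract configuration of component pairs. -/
structure Pairs (N A P : Type*) [Group N] [CommGroup A] [MulDistribMulAction N A]
    [MulAction N P] where
  V : P → Subgroup A
  R : P → Subgroup A
  f : ℕ
  f_odd : Odd f
  sq : ∀ a : A, a * a = 1
  smul_V : ∀ (n : N) (p : P) {a : A}, a ∈ V p → n • a ∈ V (n • p)
  smul_R : ∀ (n : N) (p : P) {a : A}, a ∈ R p → n • a ∈ R (n • p)
  trans : ∀ p q : P, ∃ n : N, n • p = q
  inf_eq : ∀ p, V p ⊓ R p = ⊥
  split : ∀ p (a : A), ∃ v ∈ V p, ∃ r ∈ R p, v * r = a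
  card_V : ∀ p, Nat.card (V p) = 2 ^ f
  R_ne : ∀ p, R p ≠ ⊥
  torus : ∀ p, ∃ h : N, (∀ r ∈ R p, h • r = r) ∧ (∀ v ∈ V p, h • v ∈ V p) ∧
    ∀ v ∈ V p, ∀ w ∈ V p, v ≠ 1 → w ≠ 1 → ∃ j : ℕ, h ^ j • v = w
  meet : ∀ p q, R p ⊓ R q ≠ ⊥ → p = q ∨ (V q ≤ R p ∧ V p ≤ R q)
  three : ¬ 3 ∣ Nat.card N
  index_ne : ∀ H : Subgroup N, H.index ≠ 2
  irred : ∀ B : Subgroup A, (∀ (n : N) (a : A), a ∈ B → n • a ∈ B) → B = ⊥ ∨ B = ⊤

namespace Pairs

variable {N A P : Type*} [Group N] [CommGroup A] [MulDistribMulAction N A] [MulAction N P]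
variable (C : Pairs N A P)
include C

theorem inv_eq (a : A) : a⁻¹ = a := inv_eq_of_mul_eq_one_right (C.sq a)

theorem eq_one_of_mem {p : P} {a : A} (hv : a ∈ C.V p) (hr : a ∈ C.R p) : a = 1 := by
  have h : a ∈ C.V p ⊓ C.R p := ⟨hv, hr⟩
  rwa [C.inf_eq p, Subgroup.mem_bot] at h

theorem split_unique {p : P} {v v' r r' : A} (hv : v ∈ C.V p) (hv' : v' ∈ C.V p) (hr : r ∈ C.R p)
    (hr' : r' ∈ C.R p) (h : v * r = v' * r') : v = v' ∧ r = r' := by
  have h1 : v'⁻¹ * v = r' * r⁻¹ := by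
    rw [eq_mul_inv_iff_mul_eq, mul_assoc, h, inv_mul_cancel_left]
  have h2 : v'⁻¹ * v = 1 := C.eq_one_of_mem (mul_mem (inv_mem hv') hv)
    (h1 ▸ mul_mem hr' (inv_mem hr))
  have h3 : v = v' := (inv_mul_eq_one.1 h2).symm
  exact ⟨h3, mul_left_cancel (h3 ▸ h)⟩

theorem card_A [Finite A] (p : P) : Nat.card A = 2 ^ C.f * Nat.card (C.R p) := by
  rw [← C.card_V p, ← Nat.card_prod]
  refine (Nat.card_congr (Equiv.ofBijective
    (fun x : C.V p × C.R p => (x.1 : A) * (x.2 : A)) ⟨?_, ?_⟩)).symm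
  · rintro ⟨⟨v, hv⟩, r, hr⟩ ⟨⟨v', hv'⟩, r', hr'⟩ h
    obtain ⟨rfl, rfl⟩ := C.split_unique hv hv' hr hr' h
    rfl
  · intro a
    obtain ⟨v, hv, r, hr, h⟩ := C.split p a
    exact ⟨⟨⟨v, hv⟩, ⟨r, hr⟩⟩, h⟩

theorem card_R_eq [Finite A] (p q : P) : Nat.card (C.R p) = Nat.card (C.R q) :=
  Nat.eq_of_mul_eq_mul_left (pow_pos two_pos C.f) ((C.card_A p).symm.trans (C.card_A q))

theorem card_sq_le [Finite A] {p q : P} (h : C.R p ⊓ C.R q = ⊥) :
    Nat.card A ≤ 2 ^ (2 * C.f) := by
  have hinj : Function.Injective fun x : C.R p × C.R q => (x.1 : A) * (x.2 : A) := by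
    rintro ⟨⟨a, ha⟩, b, hb⟩ ⟨⟨a', ha'⟩, b', hb'⟩ hx
    have h1 : a'⁻¹ * a = b' * b⁻¹ := by
      rw [eq_mul_inv_iff_mul_eq, mul_assoc, show a * b = a' * b' from hx, inv_mul_cancel_left]
    have h2 : a'⁻¹ * a ∈ C.R p ⊓ C.R q :=
      Subgroup.mem_inf.2 ⟨mul_mem (inv_mem ha') ha, h1 ▸ mul_mem hb' (inv_mem hb)⟩
    rw [h, Subgroup.mem_bot] at h2
    obtain rfl := inv_mul_eq_one.1 h2
    obtain rfl := mul_left_cancel (show a' * b = a' * b' from hx)
    rfl
  have h1 := Nat.card_le_card_of_injective _ hinj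
  rw [Nat.card_prod, C.card_R_eq q p, C.card_A p] at h1
  rw [C.card_A p, two_mul, pow_add]
  exact Nat.mul_le_mul_left _ (Nat.le_of_mul_le_mul_right h1 Nat.card_pos)

theorem disjoint_of_small [Finite A] (hA : Nat.card A ≤ 2 ^ (2 * C.f)) {p q : P} (hpq : p ≠ q)
    {a : A} (hp : a ∈ C.R p) (hq : a ∈ C.R q) : a = 1 := by
  by_contra ha
  have hne : C.R p ⊓ C.R q ≠ ⊥ := fun h => ha (by
    have h1 : a ∈ C.R p ⊓ C.R q := ⟨hp, hq⟩
    rwa [h, Subgroup.mem_bot] at h1)
  obtain ⟨h1, h2⟩ := (C.meet p q hne).resolve_left hpq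
  rw [C.card_A p, two_mul, pow_add] at hA
  have h3 : C.V q = C.R p := Subgroup.eq_of_le_of_card_ge h1
    ((C.card_V q).symm ▸ Nat.le_of_mul_le_mul_left hA (pow_pos two_pos C.f))
  exact ha (C.eq_one_of_mem (h3.symm ▸ hp) hq)

theorem exists_ne [Finite A] (p : P) : ∃ q : P, q ≠ p := by
  by_contra hall
  push_neg at hall
  rcases C.irred (C.V p) (fun n a ha => by
    have h1 := C.smul_V n p ha
    rwa [hall (n • p)] at h1) with h | h
  · have h1 := C.card_V p
    rw [h, Subgroup.card_bot] at h1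
    have h2 : 2 ≤ 2 ^ C.f := by
      obtain ⟨k, hk⟩ := C.f_odd
      exact le_self_pow₀ (by norm_num) (by omega)
    omega
  · have h1 := C.inf_eq p
    rw [h, top_inf_eq] at h1
    exact C.R_ne p h1

/-- A conjugate of `R q` not inside `V p` is a graph over `R p`. -/
theorem inf_eq_of_not_le [Finite A] (hA : Nat.card A ≤ 2 ^ (2 * C.f)) {p q : P} (hpq : p ≠ q)
    (hle : ¬ C.R q ≤ C.V p) {t : A} (htR : t ∈ C.R q) (htV : t ∈ C.V p) : t = 1 := by
  by_contra ht
  obtain ⟨y, hy, hyV⟩ := SetLike.not_le_iff_exists.1 hle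
  obtain ⟨h, hfix, hV, htr⟩ := C.torus p
  obtain ⟨w, hw, r, hr, hwr⟩ := C.split p y
  have hr1 : r ≠ 1 := fun e => hyV (by rw [← hwr, e, mul_one]; exact hw)
  have hw1 : w ≠ 1 := fun e => by
    rw [e, one_mul] at hwr
    exact hr1 (C.disjoint_of_small hA hpq hr (hwr ▸ hy))
  have hwt : w * t ≠ 1 := fun e => by
    refine hr1 (C.disjoint_of_small hA hpq hr ?_)
    have h1 : r = t * y := by
      calc r = (w * t) * r := by rw [e, one_mul]
        _ = t * (w * r) := by rw [mul_comm w t, mul_assoc]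
        _ = t * y := by rw [hwr]
    exact h1 ▸ mul_mem htR hy
  obtain ⟨j, hj⟩ := htr w hw (w * t) (mul_mem hw htV) hw1 hwt
  have hfixj : ∀ i : ℕ, ∀ x ∈ C.R p, h ^ i • x = x := by
    intro i x hx
    induction i with
    | zero => rw [pow_zero, one_smul]
    | succ i ih => rw [pow_succ, mul_smul, hfix x hx, ih]
  have hVj : ∀ i : ℕ, ∀ x ∈ C.V p, h ^ i • x ∈ C.V p := by
    intro i x hx
    induction i with
    | zero => rwa [pow_zero, one_smul]
    | succ i ih => rw [pow_succ', mul_smul]; exact hV _ ih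
  have hy' : h ^ j • y = y * t := by
    rw [← hwr, smul_mul', hj, hfixj j r hr, mul_right_comm]
  have hq : h ^ j • q = q := by
    by_contra hne
    have h1 : y * t = 1 := C.disjoint_of_small hA hne (hy' ▸ C.smul_R (h ^ j) q hy)
      (mul_mem hy htR)
    exact hyV (by rw [eq_inv_of_mul_eq_one_left h1]; exact inv_mem htV)
  have hmap : ∀ z ∈ C.R q, z⁻¹ * h ^ j • z ∈ C.V p ⊓ C.R q := by
    intro z hz
    obtain ⟨v, hv, s, hs, hvs⟩ := C.split p z
    refine Subgroup.mem_inf.2 ⟨?_, mul_mem (inv_mem hz) ?_⟩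
    · have h1 : z⁻¹ * h ^ j • z = v⁻¹ * h ^ j • v := by
        rw [← hvs, smul_mul', hfixj j s hs, mul_inv_rev, mul_assoc, mul_comm _ s,
          ← mul_assoc v⁻¹ s, mul_comm v⁻¹ s, mul_assoc, inv_mul_cancel_left]
      rw [h1]
      exact mul_mem (inv_mem hv) (hVj j v hv)
    · have h1 := C.smul_R (h ^ j) q hz
      rwa [hq] at h1
  have hinj : Function.Injective
      (fun z : C.R q => (⟨z.1⁻¹ * h ^ j • z.1, hmap z.1 z.2⟩ : ↥(C.V p ⊓ C.R q))) := by
    rintro ⟨z, hz⟩ ⟨z', hz'⟩ he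
    have he' : z⁻¹ * h ^ j • z = z'⁻¹ * h ^ j • z' := congrArg Subtype.val he
    have hd : h ^ j • (z * z'⁻¹) = z * z'⁻¹ := by
      rw [smul_mul', smul_inv', mul_inv_eq_iff_eq_mul, mul_assoc, ← he', mul_inv_cancel_left]
    obtain ⟨v, hv, s, hs, hvs⟩ := C.split p (z * z'⁻¹)
    rw [← hvs, smul_mul', hfixj j s hs] at hd
    have hv' : h ^ j • v = v := mul_right_cancel hd
    by_cases hv1 : v = 1
    · rw [hv1, one_mul] at hvs
      have h1 := C.disjoint_of_small hA hpq hs (hvs ▸ mul_mem hz (inv_mem hz'))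
      rw [h1] at hvs
      exact Subtype.ext (mul_inv_eq_one.1 hvs.symm)
    · obtain ⟨i, hi⟩ := htr v hv w hw hv1 hw1
      have h1 : h ^ j • w = w := by
        rw [← hi, smul_smul, ← pow_add, add_comm, pow_add, mul_smul, hv']
      rw [hj] at h1
      exact absurd (mul_eq_left.1 h1) ht
  have hcard := Nat.card_le_card_of_injective _ hinj
  exact hyV ((Subgroup.eq_of_le_of_card_ge inf_le_right hcard).ge hy).1

/-- If some `R q` is not inside `V p`, then everything outside `V p` is covered. -/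
theorem cover [Finite A] (hA : Nat.card A ≤ 2 ^ (2 * C.f)) {p q : P} (hpq : p ≠ q)
    (hle : ¬ C.R q ≤ C.V p) {a : A} (ha : a ∉ C.V p) : ∃ q', a ∈ C.R q' := by
  obtain ⟨v, hv, r, hr, rfl⟩ := C.split p a
  have hr1 : r ≠ 1 := fun e => ha (by rw [e, mul_one]; exact hv)
  by_cases hv1 : v = 1
  · exact ⟨p, by rw [hv1, one_mul]; exact hr⟩
  have hproj : ∀ z : C.R q, ∃ s : C.R p, ∃ w ∈ C.V p, w * (s : A) = z := fun z => by
    obtain ⟨w, hw, s, hs, h⟩ := C.split p z.1
    exact ⟨⟨s, hs⟩, w, hw, h⟩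
  choose π w hw hπ using hproj
  have hinj : Function.Injective π := by
    intro z z' h
    have h1 : (z : A) * (z' : A)⁻¹ ∈ C.V p := by
      rw [← hπ z, ← hπ z', h, mul_inv_rev, mul_assoc, mul_inv_cancel_left]
      exact mul_mem (hw z) (inv_mem (hw z'))
    exact Subtype.ext (mul_inv_eq_one.1
      (C.inf_eq_of_not_le hA hpq hle (mul_mem z.2 (inv_mem z'.2)) h1))
  haveI := Fintype.ofFinite (C.R q)
  haveI := Fintype.ofFinite (C.R p)
  obtain ⟨z, hz⟩ := ((Fintype.bijective_iff_injective_and_card π).2 ⟨hinj, by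
    simp only [← Nat.card_eq_fintype_card, C.card_R_eq q p]⟩).2 ⟨r, hr⟩
  have hz' : w z * r = z := by rw [← hπ z, hz]
  have hw1 : w z ≠ 1 := fun e => by
    rw [e, one_mul] at hz'
    exact hr1 (C.disjoint_of_small hA hpq hr (hz' ▸ z.2))
  obtain ⟨h, hfix, _, htr⟩ := C.torus p
  obtain ⟨j, hj⟩ := htr _ (hw z) v hv hw1 hv1
  have hfixj : h ^ j • r = r := by
    have : ∀ i : ℕ, h ^ i • r = r := fun i => by
      induction i with
      | zero => rw [pow_zero, one_smul]
      | succ i ih => rw [pow_succ, mul_smul, hfix r hr, ih]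
    exact this j
  refine ⟨h ^ j • q, ?_⟩
  have h1 := C.smul_R (h ^ j) q z.2
  rwa [← hz', smul_mul', hj, hfixj] at h1

theorem exists_not_le [Finite A] [Finite P] (hA : Nat.card A ≤ 2 ^ (2 * C.f)) (p : P) :
    ∃ q, p ≠ q ∧ ¬ C.R q ≤ C.V p := by
  classical
  have key : (∀ p, ∃ q, p ≠ q ∧ ¬ C.R q ≤ C.V p) ∨ ∀ p q, p ≠ q → C.R q ≤ C.V p := by
    by_cases h : ∃ p q, p ≠ q ∧ ¬ C.R q ≤ C.V p
    · left
      obtain ⟨p₀, q₀, hne, hle⟩ := h
      intro p
      obtain ⟨n, rfl⟩ := C.trans p₀ p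
      refine ⟨n • q₀, fun e => hne (MulAction.injective n e), fun e => hle fun a ha => ?_⟩
      have h1 := C.smul_V n⁻¹ (n • p₀) (e (C.smul_R n q₀ ha))
      rwa [inv_smul_smul, inv_smul_smul] at h1
    · right
      push_neg at h
      exact h
  refine key.elim (fun h => h p) fun hall => False.elim ?_
  obtain ⟨q, hq⟩ := C.exists_ne p
  by_cases h2 : ∃ q', q' ≠ p ∧ q' ≠ q
  · obtain ⟨q', hq'p, hq'q⟩ := h2
    obtain ⟨x, hx, hx1⟩ := (Subgroup.bot_or_exists_ne_one _).resolve_left (C.R_ne q)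
    obtain ⟨y, hy, hy1⟩ := (Subgroup.bot_or_exists_ne_one _).resolve_left (C.R_ne q')
    have hxy : x * y ≠ 1 := fun e => hx1 (C.disjoint_of_small hA hq'q
      ((eq_inv_of_mul_eq_one_left e) ▸ inv_mem hy) hx)
    obtain ⟨h, _, _, htr⟩ := C.torus p
    have hxy' : x * y ∈ C.V p := mul_mem (hall p q hq.symm hx) (hall p q' hq'p.symm hy)
    obtain ⟨j, hj⟩ := htr x (hall p q hq.symm hx) _ hxy' hx1 hxy
    have hmem : x * y ∈ C.R (h ^ j • q) := hj ▸ C.smul_R (h ^ j) q hx
    have hne1 : h ^ j • q ≠ q := fun e => by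
      rw [e] at hmem
      have h1 : y ∈ C.R q := by simpa using mul_mem (inv_mem hx) hmem
      exact hy1 (C.disjoint_of_small hA hq'q hy h1)
    have hne2 : h ^ j • q ≠ q' := fun e => by
      rw [e] at hmem
      have h1 : x ∈ C.R q' := by simpa using mul_mem hmem (inv_mem hy)
      exact hx1 (C.disjoint_of_small hA hq'q h1 hx)
    exact hxy (C.eq_one_of_mem (mul_mem (hall _ q hne1 hx) (hall _ q' hne2 hy)) hmem)
  · push_neg at h2
    haveI : IsPretransitive N P := ⟨C.trans⟩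
    refine C.index_ne (stabilizer N p) ?_
    rw [index_stabilizer_of_transitive]
    refine Nat.card_eq_two_iff.2 ⟨p, q, hq.symm, ?_⟩
    ext x
    simp only [Set.mem_insert_iff, Set.mem_singleton_iff, Set.mem_univ, iff_true]
    by_cases hx : x = p
    · exact Or.inl hx
    · exact Or.inr (h2 x hx)

theorem cover_all [Finite A] [Finite P] [Nonempty P] (hA : Nat.card A ≤ 2 ^ (2 * C.f)) (a : A) :
    ∃ q, a ∈ C.R q := by
  by_contra hcon
  push_neg at hcon
  have hall : ∀ (n : N) (p : P), n • a ∈ C.V p := by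
    intro n p
    obtain ⟨q, hq, hle⟩ := C.exists_not_le hA p
    by_contra hna
    obtain ⟨q', hq'⟩ := C.cover hA hq hle hna
    have h1 := C.smul_R n⁻¹ q' hq'
    rw [inv_smul_smul] at h1
    exact hcon _ h1
  obtain ⟨p⟩ := ‹Nonempty P›
  rcases C.irred (closure (Set.range fun n : N => n • a)) (fun m x hx => by
      have hle : closure (Set.range fun n : N => n • a) ≤
          (closure (Set.range fun n : N => n • a)).comap (MulDistribMulAction.toMonoidHom A m) := by
        rw [closure_le]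
        rintro _ ⟨n, rfl⟩
        exact subset_closure ⟨m * n, mul_smul m n a⟩
      exact hle hx) with h | h
  · have h1 : a ∈ closure (Set.range fun n : N => n • a) := subset_closure ⟨1, one_smul N a⟩
    rw [h, Subgroup.mem_bot] at h1
    exact hcon p (h1 ▸ one_mem _)
  · have hle : (⊤ : Subgroup A) ≤ C.V p := h ▸ (closure_le _).2 (by
      rintro _ ⟨n, rfl⟩
      exact hall n p)
    refine C.R_ne p (le_bot_iff.1 fun x hx => ?_)
    rw [Subgroup.mem_bot]
    exact C.eq_one_of_mem (hle (Subgroup.mem_top x)) hx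

omit C [MulAction N P] in
theorem two_pow_mod_three (n : ℕ) : 2 ^ n % 3 = if Even n then 1 else 2 := by
  induction n with
  | zero => simp
  | succ n ih =>
    rw [pow_succ, Nat.mul_mod, ih]
    by_cases h : Even n <;> simp [h, Nat.even_add_one]

theorem large [Finite N] [Finite A] [Finite P] [Nonempty P] : 2 ^ (2 * C.f) < Nat.card A := by
  by_contra hcon
  push_neg at hcon
  classical
  obtain ⟨p⟩ := ‹Nonempty P›
  haveI := Fintype.ofFinite A
  haveI := Fintype.ofFinite P
  haveI : IsPretransitive N P := ⟨C.trans⟩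
  -- partition of the nontrivial elements
  let T : P → Finset A := fun q => Finset.univ.filter fun a => a ∈ C.R q ∧ a ≠ 1
  have hT : ∀ q, (T q).card = Nat.card (C.R p) - 1 := by
    intro q
    have h1 : T q = (Finset.univ.filter fun a => a ∈ C.R q).erase 1 := by
      ext a; simp [T, and_comm]
    rw [h1, Finset.card_erase_of_mem (by simp), C.card_R_eq p q, Nat.card_eq_fintype_card,
      Fintype.card_subtype]
  have hdisj : ∀ s : Finset P, (s : Set P).PairwiseDisjoint T := fun s q _ q' _ hne =>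
    Finset.disjoint_left.2 fun a ha ha' => by
      simp only [T, Finset.mem_filter] at ha ha'
      exact ha.2.2 (C.disjoint_of_small hcon hne ha.2.1 ha'.2.1)
  have hall : Nat.card A - 1 = Nat.card P * (Nat.card (C.R p) - 1) := by
    have h1 : Finset.univ.erase (1 : A) = Finset.univ.biUnion T := by
      ext a
      simp only [Finset.mem_erase, Finset.mem_univ, and_true, Finset.mem_biUnion, T,
        Finset.mem_filter, true_and]
      exact ⟨fun ha => (C.cover_all hcon a).imp fun q hq => ⟨hq, ha⟩, fun ⟨_, _, ha⟩ => ha⟩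
    have h2 := congrArg Finset.card h1
    rw [Finset.card_erase_of_mem (Finset.mem_univ _), Finset.card_biUnion (hdisj _),
      Finset.sum_congr rfl (fun q _ => hT q), Finset.sum_const, Finset.card_univ,
      Finset.card_univ, ← Nat.card_eq_fintype_card, ← Nat.card_eq_fintype_card,
      smul_eq_mul] at h2
    exact h2
  have hV : Nat.card (C.R p) - 1 ∣ 2 ^ C.f - 1 := by
    have h1 : (Finset.univ.filter fun a => a ∈ C.V p).erase 1 =
        (Finset.univ.filter fun q => C.R q ≤ C.V p).biUnion T := by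
      ext a
      simp only [Finset.mem_erase, Finset.mem_filter, Finset.mem_univ, true_and,
        Finset.mem_biUnion, T]
      constructor
      · rintro ⟨ha, haV⟩
        obtain ⟨q, hq⟩ := C.cover_all hcon a
        refine ⟨q, ?_, hq, ha⟩
        by_contra hle
        by_cases hpq : p = q
        · subst hpq
          exact ha (C.eq_one_of_mem haV hq)
        · exact ha (C.inf_eq_of_not_le hcon hpq hle hq haV)
      · rintro ⟨q, hq, haR, ha⟩
        exact ⟨ha, hq haR⟩
    have h2 := congrArg Finset.card h1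
    rw [Finset.card_erase_of_mem (by simp), Finset.card_biUnion (hdisj _),
      Finset.sum_congr rfl (fun q _ => hT q), Finset.sum_const, ← Fintype.card_subtype,
      ← Nat.card_eq_fintype_card, smul_eq_mul] at h2
    rw [show Nat.card (C.V p) = Nat.card {a : A // a ∈ C.V p} from rfl] at *
    have h3 := C.card_V p
    exact ⟨_, by rw [← h3]; exact h2.trans (Nat.mul_comm _ _)⟩
  obtain ⟨r, hr⟩ : ∃ r, Nat.card (C.R p) = 2 ^ r := by
    haveI : Fact (Nat.Prime 2) := ⟨Nat.prime_two⟩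
    exact IsPGroup.iff_card.1 fun x => ⟨1, Subtype.ext (by simpa [pow_two] using C.sq (x : A))⟩
  have hne : ∀ k, 1 ≤ 2 ^ k := fun k => Nat.one_le_two_pow
  have hf := two_pow_mod_three C.f
  rw [if_neg (Nat.not_even_iff_odd.2 C.f_odd)] at hf
  have hrodd : Odd r := by
    by_contra hev
    rw [Nat.not_odd_iff_even] at hev
    have h2 := two_pow_mod_three r
    rw [if_pos hev] at h2
    rw [hr] at hV
    have := hne r
    have := hne C.f
    have h4 : 3 ∣ 2 ^ C.f - 1 := dvd_trans (by omega) hV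
    omega
  have hr' := two_pow_mod_three r
  rw [if_neg (Nat.not_even_iff_odd.2 hrodd)] at hr'
  have hs := two_pow_mod_three (C.f + r)
  rw [if_pos (C.f_odd.add_odd hrodd)] at hs
  rw [C.card_A p, hr, ← pow_add] at hall
  have := hne r
  have := hne (C.f + r)
  have h3 : 3 ∣ Nat.card P * (2 ^ r - 1) := by rw [← hall]; omega
  rcases (Nat.prime_three.dvd_mul).1 h3 with h | h
  · refine C.three (dvd_trans h ?_)
    rw [← index_stabilizer_of_transitive N p]
    exact (stabilizer N p).index_dvd_card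
  · omega

/-- Distinct pairs are orthogonal. -/
theorem ortho [Finite N] [Finite A] [Finite P] {p q : P} (hpq : p ≠ q) : C.V q ≤ C.R p := by
  haveI : Nonempty P := ⟨p⟩
  by_cases h : C.R p ⊓ C.R q = ⊥
  · exact absurd (C.card_sq_le h) (not_le.2 C.large)
  · exact ((C.meet p q h).resolve_left hpq).1

end Pairs

end Cfsg.Agent.ThreePrime56
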