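import Cfsg.Agent.ThreePrime56.BlocksLocal
import Cfsg.Agent.ThreePrime56.Pairs

/-!
# Trivial cores: the blocks generate a proper normal layer
-/

set_option autoImplicit false
set_option linter.style.haveILetI false

namespace Cfsg.Agent.ThreePrime56

open Subgroup ThreePrime72
open scoped commutatorElement

universe u

variable {G : Type u} [Group G] [Finite G] {S : Sylow 2 G} {A : Subgroup G}

/-- `N(A)` acting on `A`. -/
@[reducible]
def normAct (A : Subgroup G) :
    MulDistribMulAction ↥(normalizer (A : Set G)) ↥A where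
  smul n a := ⟨(n : G) * a * (n : G)⁻¹, (mem_normalizer_iff.1 n.2 a).1 a.2⟩
  one_smul a := Subtype.ext (show (1 : G) * a * (1 : G)⁻¹ = a by group)
  mul_smul m n a := Subtype.ext (show ((m : G) * n) * a * ((m : G) * n)⁻¹ =
    m * (n * a * (n : G)⁻¹) * (m : G)⁻¹ by group)
  smul_mul n a b := Subtype.ext (show (n : G) * ((a : G) * b) * (n : G)⁻¹ =
    n * a * (n : G)⁻¹ * (n * b * (n : G)⁻¹) by group)
  smul_one n := Subtype.ext (show (n : G) * 1 * (n : G)⁻¹ = 1 by group)

/-- The `N(A)`-conjugates of `L₀`. -/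
def Orb (A L₀ : Subgroup G) : Type u :=
  {L : Subgroup G // ∃ n ∈ normalizer (A : Set G), L = L₀.map (MulAut.conj n).toMonoidHom}

/-- `N(A)` permuting the conjugates of `L₀`. -/
@[reducible]
def orbAct (A L₀ : Subgroup G) : MulAction ↥(normalizer (A : Set G)) (Orb A L₀) where
  smul n L := ⟨L.1.map (MulAut.conj (n : G)).toMonoidHom, by
    obtain ⟨m, hm, he⟩ := L.2
    exact ⟨(n : G) * m, mul_mem n.2 hm, by rw [he, Components.map_conj_map_conj]⟩⟩
  one_smul L := Subtype.ext (Components.map_conj_one L.1)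
  mul_smul m n L := Subtype.ext (Components.map_conj_map_conj L.1 (m : G) (n : G)).symm

omit [Finite G] in
theorem map_conj_eq_of_mem_normalizer {n : G} (hn : n ∈ normalizer (A : Set G)) :
    A.map (MulAut.conj n).toMonoidHom = A :=
  Components.map_conj_eq_iff_mem_normalizer.2 hn

theorem map_conj_block (h : Setup S A) {L : Subgroup G} (hL : IsBlock A L) {n : G}
    (hn : n ∈ normalizer (A : Set G)) : IsBlock A (L.map (MulAut.conj n).toMonoidHom) := by
  obtain ⟨a, ha, ha1, hLC, hcomp, hmov⟩ := hL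
  refine ⟨n * a * n⁻¹, (mem_normalizer_iff.1 hn a).1 ha, fun e => ha1 (conj_eq_one_iff.1 e),
    ?_, Components.componentIn_map_conj n a hcomp, fun hc => hmov fun x hx => ?_⟩
  · rintro _ ⟨l, hl, rfl⟩
    rw [mem_centralizer_singleton_iff]
    have h1 : l * a = a * l := mem_centralizer_singleton_iff.1 (hLC hl)
    show n * l * n⁻¹ * (n * a * n⁻¹) = n * a * n⁻¹ * (n * l * n⁻¹)
    calc n * l * n⁻¹ * (n * a * n⁻¹) = n * (l * a) * n⁻¹ := by group
      _ = _ := by rw [h1]; group
  · refine mem_centralizer_iff.2 fun l hl => ?_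
    have h1 := mem_centralizer_iff.1 (hc ((mem_normalizer_iff.1 hn x).1 hx)) _ ⟨l, hl, rfl⟩
    have h2 : n * (l * x) * n⁻¹ = n * (x * l) * n⁻¹ := by
      calc n * (l * x) * n⁻¹ = n * l * n⁻¹ * (n * x * n⁻¹) := by group
        _ = n * x * n⁻¹ * (n * l * n⁻¹) := h1
        _ = n * (x * l) * n⁻¹ := by group
    exact mul_left_cancel (mul_right_cancel h2)

theorem mem_conj_inf_centralizer {L : Subgroup G} {n x : G} (hn : n ∈ normalizer (A : Set G))
    (hx : x ∈ A ⊓ centralizer (L : Set G)) :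
    n * x * n⁻¹ ∈ A ⊓ centralizer ((L.map (MulAut.conj n).toMonoidHom : Subgroup G) : Set G) := by
  refine mem_inf.2 ⟨(mem_normalizer_iff.1 hn x).1 hx.1, mem_centralizer_iff.2 ?_⟩
  rintro _ ⟨l, hl, rfl⟩
  show n * l * n⁻¹ * (n * x * n⁻¹) = n * x * n⁻¹ * (n * l * n⁻¹)
  have h1 : l * x = x * l := mem_centralizer_iff.1 hx.2 l hl
  calc n * l * n⁻¹ * (n * x * n⁻¹) = n * (l * x) * n⁻¹ := by group
    _ = _ := by rw [h1]; group

/-- A non-abelian simple group has no 2-quotient. -/
theorem pResidual_eq_top (hG : ThreePrime72.Min G) : Cfsg.pResidual 2 G = ⊤ := by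
  haveI : Fact (Nat.Prime 2) := ⟨Nat.prime_two⟩
  haveI := hG.simple
  rcases (inferInstance : (Cfsg.pResidual 2 G).Normal).eq_bot_or_eq_top with h | h
  · exfalso
    have hp : IsPGroup 2 G := by
      intro x
      obtain ⟨k, hk⟩ := Transfer.isPGroup_quotient_pResidual (p := 2) (G := G) (x : G ⧸ _)
      refine ⟨k, ?_⟩
      rw [← QuotientGroup.mk_pow, QuotientGroup.eq_one_iff, h, mem_bot] at hk
      exact hk
    haveI := hp.center_nontrivial
    rcases (inferInstance : (center G).Normal).eq_bot_or_eq_top with h' | h'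
    · exact (Subgroup.nontrivial_iff_ne_bot _).1 inferInstance h'
    · obtain ⟨x, y, hxy⟩ := hG.nc
      exact hxy (mem_center_iff.1 (h' ▸ mem_top y : y ∈ center G) x)
  · exact h

/-- `A` is the product of `A ⊓ L` and `A ⊓ C(L)`. -/
theorem card_eq_mul (hK : KSecStmt.{u}) (hG : ThreePrime72.Min G) (h : Setup S A) (hW : W A = ⊥)
    {L : Subgroup G} (hL : IsBlock A L) :
    Nat.card ↥A = Nat.card ↥(A ⊓ L) * Nat.card ↥(A ⊓ centralizer (L : Set G)) := by
  obtain ⟨-, hinf, hsplit, -⟩ := hL.data hK hG h hW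
  rw [← Nat.card_prod]
  refine (Nat.card_congr (Equiv.ofBijective
    (fun x : ↥(A ⊓ L) × ↥(A ⊓ centralizer (L : Set G)) =>
      (⟨(x.1 : G) * x.2, mul_mem x.1.2.1 x.2.2.1⟩ : ↥A)) ⟨?_, ?_⟩)).symm
  · rintro ⟨⟨v, hv⟩, r, hr⟩ ⟨⟨v', hv'⟩, r', hr'⟩ he
    have he' : v * r = v' * r' := congrArg Subtype.val he
    have h1 : v'⁻¹ * v = r' * r⁻¹ := by
      rw [eq_mul_inv_iff_mul_eq, mul_assoc, he', inv_mul_cancel_left]
    have h2 : v'⁻¹ * v ∈ A ⊓ L ⊓ (A ⊓ centralizer (L : Set G)) :=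
      mem_inf.2 ⟨mul_mem (inv_mem hv') hv, h1 ▸ mul_mem hr' (inv_mem hr)⟩
    rw [hinf, mem_bot] at h2
    obtain rfl := inv_mul_eq_one.1 h2
    obtain rfl := mul_left_cancel he'
    rfl
  · rintro ⟨a, ha⟩
    obtain ⟨v, hv, r, hr, hvr⟩ := hsplit a ha
    exact ⟨⟨⟨v, hv⟩, ⟨r, hr⟩⟩, Subtype.ext hvr⟩

theorem card_le_of_inf_eq_bot (hK : KSecStmt.{u}) (hG : ThreePrime72.Min G) (h : Setup S A)
    (hW : W A = ⊥) {L L' : Subgroup G} (hL : IsBlock A L) (hL' : IsBlock A L')
    (he : A ⊓ centralizer (L : Set G) ⊓ (A ⊓ centralizer (L' : Set G)) = ⊥) :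
    Nat.card ↥A ≤ Nat.card ↥(A ⊓ L) * Nat.card ↥(A ⊓ L') := by
  set R := A ⊓ centralizer (L : Set G)
  set R' := A ⊓ centralizer (L' : Set G)
  have hinj : Function.Injective
      (fun x : ↥R × ↥R' => (⟨(x.1 : G) * x.2, mul_mem x.1.2.1 x.2.2.1⟩ : ↥A)) := by
    rintro ⟨⟨v, hv⟩, r, hr⟩ ⟨⟨v', hv'⟩, r', hr'⟩ hx
    have he' : v * r = v' * r' := congrArg Subtype.val hx
    have h1 : v'⁻¹ * v = r' * r⁻¹ := by
      rw [eq_mul_inv_iff_mul_eq, mul_assoc, he', inv_mul_cancel_left]
    have h2 : v'⁻¹ * v ∈ R ⊓ R' :=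
      mem_inf.2 ⟨mul_mem (inv_mem hv') hv, h1 ▸ mul_mem hr' (inv_mem hr)⟩
    rw [he, mem_bot] at h2
    obtain rfl := inv_mul_eq_one.1 h2
    obtain rfl := mul_left_cancel he'
    rfl
  have h1 := Nat.card_le_card_of_injective _ hinj
  rw [Nat.card_prod] at h1
  have e1 := card_eq_mul hK hG h hW hL
  have e2 := card_eq_mul hK hG h hW hL'
  refine Nat.le_of_mul_le_mul_left ?_ (Nat.card_pos (α := ↥A))
  calc Nat.card ↥A * Nat.card ↥A
      = (Nat.card ↥(A ⊓ L) * Nat.card ↥R) * (Nat.card ↥(A ⊓ L') * Nat.card ↥R') := by rw [← e1, ← e2]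
    _ = (Nat.card ↥R * Nat.card ↥R') * (Nat.card ↥(A ⊓ L) * Nat.card ↥(A ⊓ L')) := by ring
    _ ≤ Nat.card ↥A * (Nat.card ↥(A ⊓ L) * Nat.card ↥(A ⊓ L')) := Nat.mul_le_mul_right _ h1

/-- The orbit of a block: `A` is large and distinct conjugates commute. -/
theorem orbit_spec (hK : KSecStmt.{u}) (hG : ThreePrime72.Min G) (h : Setup S A) (hW : W A = ⊥)
    {L₀ : Subgroup G} (hL₀ : IsBlock A L₀) :
    Nat.card ↥(A ⊓ L₀) * Nat.card ↥(A ⊓ L₀) < Nat.card ↥A ∧
      ∀ L L' : Orb A L₀, L ≠ L' → L.1 ≤ centralizer (L'.1 : Set G) := by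
  classical
  letI : CommGroup ↥A :=
    { (inferInstance : Group ↥A) with
      mul_comm := fun x y => Subtype.ext (PN72.elem_comm h.elem x.2 y.2) }
  letI := normAct A
  letI := orbAct A L₀
  have hblock : ∀ L : Orb A L₀, IsBlock A L.1 := fun L => by
    obtain ⟨n, hn, he⟩ := L.2
    rw [he]
    exact map_conj_block h hL₀ hn
  obtain ⟨f, hf, hf3, hcard⟩ := (hL₀.data hK hG h hW).1
  have hcardL : ∀ L : Orb A L₀, Nat.card ↥(A ⊓ L.1) = 2 ^ f := fun L => by
    obtain ⟨n, hn, he⟩ := L.2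
    have h1 : (A ⊓ L₀).map (MulAut.conj n).toMonoidHom = A ⊓ L.1 := by
      rw [map_inf _ _ _ (MulAut.conj n).injective, map_conj_eq_of_mem_normalizer hn, he]
    rw [← h1, card_map_of_injective (MulAut.conj n).injective, hcard]
  let C : Pairs ↥(normalizer (A : Set G)) ↥A (Orb A L₀) :=
    { V := fun L => (A ⊓ L.1).subgroupOf A
      R := fun L => (A ⊓ centralizer (L.1 : Set G)).subgroupOf A
      f := f
      f_odd := hf
      sq := fun a => Subtype.ext (h.sq a.2)
      smul_V := by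
        intro n L a ha
        exact mem_inf.2 ⟨(mem_normalizer_iff.1 n.2 a).1 ha.1, ⟨(a : G), ha.2, rfl⟩⟩
      smul_R := by
        intro n L a ha
        exact mem_conj_inf_centralizer n.2 ha
      trans := by
        intro L L'
        obtain ⟨n, hn, he⟩ := L.2
        obtain ⟨n', hn', he'⟩ := L'.2
        refine ⟨⟨n' * n⁻¹, mul_mem hn' (inv_mem hn)⟩, Subtype.ext ?_⟩
        show L.1.map (MulAut.conj (n' * n⁻¹)).toMonoidHom = L'.1
        rw [he, he', Components.map_conj_map_conj, inv_mul_cancel_right]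
      inf_eq := fun L => by
        rw [eq_bot_iff]
        intro x hx
        have h1 : (x : G) ∈ A ⊓ L.1 ⊓ (A ⊓ centralizer (L.1 : Set G)) :=
          mem_inf.2 ⟨(mem_inf.1 hx).1, (mem_inf.1 hx).2⟩
        rw [((hblock L).data hK hG h hW).2.1, mem_bot] at h1
        exact mem_bot.2 (Subtype.ext h1)
      split := fun L a => by
        obtain ⟨v, hv, r, hr, he⟩ := ((hblock L).data hK hG h hW).2.2.1 a a.2
        exact ⟨⟨v, hv.1⟩, hv, ⟨r, hr.1⟩, hr, Subtype.ext he⟩
      card_V := fun L => by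
        rw [Nat.card_congr (subgroupOfEquivOfLe (inf_le_left : A ⊓ L.1 ≤ A)).toEquiv, hcardL L]
      R_ne := fun L hbot => by
        obtain ⟨a, ha, ha1, hLC, -, -⟩ := hblock L
        have h1 : (⟨a, ha⟩ : ↥A) ∈ (A ⊓ centralizer (L.1 : Set G)).subgroupOf A :=
          mem_inf.2 ⟨ha, mem_centralizer_iff.2 fun l hl =>
            mem_centralizer_singleton_iff.1 (hLC hl)⟩
        rw [hbot, mem_bot] at h1
        exact ha1 (congrArg Subtype.val h1)
      torus := fun L => by
        obtain ⟨t, htA, htR, htV, htj⟩ := ((hblock L).data hK hG h hW).2.2.2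
        refine ⟨⟨t, htA⟩, fun r hr => Subtype.ext ?_, fun v hv => htV v hv,
          fun v hv w hw hv1 hw1 => ?_⟩
        · show t * r * t⁻¹ = r
          rw [htR r hr, mul_inv_cancel_right]
        · obtain ⟨j, hj⟩ := htj v hv w hw (fun e => hv1 (Subtype.ext e))
            (fun e => hw1 (Subtype.ext e))
          exact ⟨j, Subtype.ext hj⟩
      meet := by
        intro L L' hne
        have hne' : A ⊓ centralizer (L.1 : Set G) ⊓ (A ⊓ centralizer (L'.1 : Set G)) ≠ ⊥ := by
          intro hbot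
          refine hne (eq_bot_iff.2 fun x hx => ?_)
          have h1 : (x : G) ∈ A ⊓ centralizer (L.1 : Set G) ⊓ (A ⊓ centralizer (L'.1 : Set G)) :=
            mem_inf.2 ⟨(mem_inf.1 hx).1, (mem_inf.1 hx).2⟩
          rw [hbot, mem_bot] at h1
          exact mem_bot.2 (Subtype.ext h1)
        refine ((hblock L).eq_or_commute hK hG h hW (hblock L') hne').imp Subtype.ext fun hc => ?_
        exact ⟨fun x hx => mem_inf.2 ⟨hx.1, Subgroup.le_centralizer_iff.1 hc hx.2⟩,
          fun x hx => mem_inf.2 ⟨hx.1, hc hx.2⟩⟩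
      three := fun h3 => hG.three (h3.trans (card_subgroup_dvd_card _))
      index_ne := fun H => h.ctl.index_ne_two (pResidual_eq_top hG) H
      irred := fun B hB => by
        have hBA : B.map A.subtype ≤ A := map_subtype_le _
        have hBn : normalizer (A : Set G) ≤ normalizer ((B.map A.subtype : Subgroup G) : Set G) := by
          intro n hn
          refine LocalEven62.mem_normalizer_of_conj_mem ?_
          rintro _ ⟨b, hb, rfl⟩
          exact ⟨_, hB ⟨n, hn⟩ b hb, rfl⟩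
        rcases h.irr (B.map A.subtype) hBA hBn with hb | hb
        · exact Or.inl ((map_eq_bot_iff_of_injective _ A.subtype_injective).1 hb)
        · refine Or.inr (map_injective A.subtype_injective (hb.trans ?_))
          rw [← MonoidHom.range_eq_map]
          exact (range_subtype A).symm }
  haveI : Finite (Orb A L₀) := Subtype.finite
  haveI : Nonempty (Orb A L₀) := ⟨⟨L₀, 1, one_mem _, (Components.map_conj_one L₀).symm⟩⟩
  have hlarge : 2 ^ (2 * f) < Nat.card ↥A := C.large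
  refine ⟨by rw [hcard, ← pow_add, ← two_mul]; exact hlarge, fun L L' hne => ?_⟩
  refine ((hblock L).eq_or_commute hK hG h hW (hblock L') fun hbot => ?_).resolve_left
    fun e => hne (Subtype.ext e)
  have h1 := card_le_of_inf_eq_bot hK hG h hW (hblock L) (hblock L') hbot
  rw [hcardL, hcardL, ← pow_add, ← two_mul] at h1
  omega

/-- **Piece ProperBlocks.** -/
theorem properBlocks (hK : KSecStmt.{u}) : ProperBlocksStmt.{u} := by
  intro G _ _ hG S A h hW
  classical
  haveI := hG.simple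
  have hcl : ∀ (M : Subgroup G), normalizer (A : Set G) ≤ M →
      (∀ L, IsBlock A L → L ≤ M) →
      ∀ a ∈ A, a ≠ 1 → centralizer ({a} : Set G) ≤ M := by
    intro M hNM hLM a ha ha1 g hg
    have hAX := le_centralizer_of_mem h ha
    obtain ⟨T, hT⟩ := exists_kHyp hG h hW ha ha1
    obtain ⟨-, htop, -, -⟩ := hK _ T _ hT
    suffices hle : (⊤ : Subgroup ↥(centralizer ({a} : Set G))) ≤ M.subgroupOf _ from
      hle (mem_top ⟨g, hg⟩)
    rw [← htop, closure_le]
    rintro x (hx | hx)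
    · refine hNM (LocalEven62.mem_normalizer_of_conj_mem fun b hb => ?_)
      exact (mem_normalizer_iff.1 hx ⟨b, hAX hb⟩).1 hb
    · obtain ⟨K, ⟨hKc, hKm⟩, hxK⟩ := Set.mem_iUnion₂.1 hx
      have hle : K.map (centralizer ({a} : Set G)).subtype ≤ centralizer ({a} : Set G) :=
        map_subtype_le _
      have heq : (K.map (centralizer ({a} : Set G)).subtype).subgroupOf
          (centralizer ({a} : Set G)) = K :=
        comap_map_eq_self_of_injective (subtype_injective _) K
      refine hLM _ ⟨a, ha, ha1, hle, by rw [heq]; exact hKc, fun hc => hKm ?_⟩ ⟨x, hxK, rfl⟩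
      rw [← heq]
      exact (subgroupOf_le_centralizer_iff hAX hle).2 hc
  have hwn : ∀ M : Subgroup G, M ≤ normalizer ((W A : Subgroup G) : Set G) := fun M => by
    rw [hW, normalizer_eq_top_iff.2 inferInstance]
    exact le_top
  have hA1 : A ≠ ⊥ := fun e => by
    have := h.big
    rw [e, Subgroup.card_bot] at this
    omega
  have hAtop : A ≠ ⊤ := fun e => by
    obtain ⟨x, y, hxy⟩ := hG.nc
    exact hxy (PN72.elem_comm h.elem (e ▸ mem_top x) (e ▸ mem_top y))
  by_cases hblk : ∃ L, IsBlock A L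
  swap
  · push Not at hblk
    exact ⟨normalizer (A : Set G), ⟨h, hG.normalizer_ne_top hA1 hAtop, le_rfl,
      hcl _ le_rfl fun L hL => absurd hL (hblk L), hwn _⟩⟩
  obtain ⟨L₀, hL₀⟩ := hblk
  obtain ⟨hbig, hcomm⟩ := orbit_spec hK hG h hW hL₀
  have hblock : ∀ L : Orb A L₀, IsBlock A L.1 := fun L => by
    obtain ⟨n, hn, he⟩ := L.2
    rw [he]
    exact map_conj_block h hL₀ hn
  have hcardL : ∀ L : Orb A L₀, Nat.card ↥(A ⊓ L.1) = Nat.card ↥(A ⊓ L₀) := fun L => by
    obtain ⟨n, hn, he⟩ := L.2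
    have h1 : (A ⊓ L₀).map (MulAut.conj n).toMonoidHom = A ⊓ L.1 := by
      rw [map_inf _ _ _ (MulAut.conj n).injective, map_conj_eq_of_mem_normalizer hn, he]
    rw [← h1, card_map_of_injective (MulAut.conj n).injective]
  -- every block is conjugate to `L₀`
  have hall : ∀ L', IsBlock A L' → ∃ L : Orb A L₀, L.1 = L' := by
    intro L' hL'
    by_contra hno
    push Not at hno
    obtain ⟨hbig', -⟩ := orbit_spec hK hG h hW hL'
    have horth : ∀ L : Orb A L₀, L.1 ≤ centralizer (L' : Set G) := fun L => by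
      refine ((hblock L).eq_or_commute hK hG h hW hL' fun hbot => ?_).resolve_left (hno L)
      have h1 := card_le_of_inf_eq_bot hK hG h hW (hblock L) hL' hbot
      rw [hcardL L] at h1
      nlinarith
    set C0 : Subgroup G := A ⊓ ⨅ L : Orb A L₀, centralizer (L.1 : Set G) with hC0
    have hinv : normalizer (A : Set G) ≤ normalizer (C0 : Set G) := fun n hn => by
      refine LocalEven62.mem_normalizer_of_conj_mem fun x hx => ?_
      obtain ⟨hxA, hxL⟩ := mem_inf.1 hx
      rw [mem_iInf] at hxL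
      refine mem_inf.2 ⟨(mem_normalizer_iff.1 hn x).1 hxA, mem_iInf.2 fun L => ?_⟩
      obtain ⟨m, hm, he⟩ := L.2
      have h1 := (mem_conj_inf_centralizer hn (mem_inf.2 ⟨hxA,
        hxL ⟨L₀.map (MulAut.conj (n⁻¹ * m)).toMonoidHom, n⁻¹ * m, mul_mem (inv_mem hn) hm, rfl⟩⟩)).2
      rw [Components.map_conj_map_conj, mul_inv_cancel_left, ← he] at h1
      exact h1
    have hle : A ⊓ L' ≤ C0 := fun x hx =>
      mem_inf.2 ⟨hx.1, mem_iInf.2 fun L => Subgroup.le_centralizer_iff.1 (horth L) hx.2⟩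
    rcases h.irr C0 inf_le_left hinv with hb | hb
    · obtain ⟨⟨f, hf, hf3, hcard⟩, -⟩ := hL'.data hK hG h hW
      rw [hb] at hle
      rw [le_bot_iff.1 hle, Subgroup.card_bot] at hcard
      have := Nat.one_lt_two_pow (n := f) (by omega)
      omega
    · obtain ⟨a, ha, ha1, hLC, hcomp, hmov⟩ := hL₀
      exact hmov fun x hx => by
        have h1 : x ∈ C0 := hb.symm ▸ hx
        exact (mem_iInf.1 (mem_inf.1 h1).2
          ⟨L₀, 1, one_mem _, (Components.map_conj_one L₀).symm⟩ : _)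
  -- the layer
  set E : Subgroup G := ⨆ L : Orb A L₀, L.1 with hE
  set o : Orb A L₀ := ⟨L₀, 1, one_mem _, (Components.map_conj_one L₀).symm⟩ with ho
  have hEn : normalizer (A : Set G) ≤ normalizer (E : Set G) := fun n hn => by
    refine LocalEven62.mem_normalizer_of_conj_mem fun x hx => ?_
    have h1 : E.map (MulAut.conj n).toMonoidHom ≤ E := by
      rw [hE, Subgroup.map_iSup]
      refine iSup_le fun L => ?_
      obtain ⟨m, hm, he⟩ := L.2
      exact le_iSup (fun L : Orb A L₀ => L.1) ⟨L.1.map (MulAut.conj n).toMonoidHom, n * m,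
        mul_mem hn hm, by rw [he, Components.map_conj_map_conj]⟩
    exact h1 ⟨x, hx, rfl⟩
  have hL0ne : L₀ ≠ ⊥ := fun e => by
    obtain ⟨a, ha, ha1, hLC, hcomp, hmov⟩ := hL₀
    exact hmov fun x _ => mem_centralizer_iff.2 fun l hl => by
      rw [e] at hl
      rw [mem_bot.1 hl, one_mul, mul_one]
  have hEtop : normalizer (E : Set G) ≠ ⊤ := by
    refine hG.normalizer_ne_top (fun e => hL0ne (le_bot_iff.1 (e ▸ le_iSup (fun L : Orb A L₀ => L.1) o)))
      fun e => ?_
    have hn : E ≤ normalizer (L₀ : Set G) := iSup_le fun L => by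
      by_cases hL : L = o
      · subst hL
        exact le_normalizer
      · exact (hcomm L o hL).trans (centralizer_le_normalizer _)
    rw [e, top_le_iff, normalizer_eq_top_iff] at hn
    rcases hn.eq_bot_or_eq_top with h1 | h1
    · exact hL0ne h1
    · obtain ⟨a, ha, ha1, hLC, -, -⟩ := hL₀
      exact hG.centralizer_ne_top ha1 (top_le_iff.1 (h1 ▸ hLC))
  refine ⟨normalizer (E : Set G), ⟨h, hEtop, hEn, hcl _ hEn fun L hL => ?_, hwn _⟩⟩
  obtain ⟨L', rfl⟩ := hall L hL
  exact (le_iSup (fun L : Orb A L₀ => L.1) L').trans le_normalizer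

end Cfsg.Agent.ThreePrime56
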