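import Cfsg.Agent.ThreePrime72.Quot
import Cfsg.Agent.ThreePrime82.Structure
import Cfsg.Agent.Lib.Components.BProperty
import Cfsg.Agent.Lib.Components.InvolutionOnLayer

/-!
# Trivial cores: the blocks of `A` given by the components of the centralizers of its elements
-/

set_option autoImplicit false
set_option linter.style.haveILetI false

namespace Cfsg.Agent.ThreePrime56

open Subgroup ThreePrime72
open scoped commutatorElement

universe u

variable {G : Type u} [Group G] {A : Subgroup G}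

/-- A component of the centralizer of an element of `A#` not centralized by `A`. -/
def IsBlock (A L : Subgroup G) : Prop :=
  ∃ a ∈ A, a ≠ 1 ∧ L ≤ centralizer ({a} : Set G) ∧
    Cfsg.IsComponent (L.subgroupOf (centralizer ({a} : Set G))) ∧ ¬ A ≤ centralizer (L : Set G)

theorem subgroupOf_le_centralizer_iff {X B L : Subgroup G} (hB : B ≤ X) (hL : L ≤ X) :
    B.subgroupOf X ≤ centralizer (L.subgroupOf X : Set ↥X) ↔ B ≤ centralizer (L : Set G) := by
  constructor
  · intro h b hb
    refine mem_centralizer_iff.2 fun l hl => ?_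
    exact congrArg Subtype.val
      (mem_centralizer_iff.1 (h (show (⟨b, hB hb⟩ : ↥X) ∈ B.subgroupOf X from hb)) ⟨l, hL hl⟩ hl)
  · intro h b hb
    exact mem_centralizer_iff.2 fun l hl => Subtype.ext (mem_centralizer_iff.1 (h hb) l hl)

variable [Finite G] {S : Sylow 2 G}

theorem le_centralizer_of_mem (h : Setup S A) {a : G} (ha : a ∈ A) :
    A ≤ centralizer ({a} : Set G) := fun _ hx =>
  mem_centralizer_singleton_iff.2 (PN72.elem_comm h.elem hx ha)

theorem core_centralizer (hW : W A = ⊥) {a : G} (ha : a ∈ A) (ha1 : a ≠ 1) :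
    Cfsg.pPrimeCore 2 ↥(centralizer ({a} : Set G)) = ⊥ := by
  have h1 : th a ≤ W A := le_iSup (fun a : {a : G // a ∈ A ∧ a ≠ 1} => th (a : G)) ⟨a, ha, ha1⟩
  rw [hW, le_bot_iff] at h1
  exact (Subgroup.map_eq_bot_iff_of_injective _
    (centralizer ({a} : Set G)).subtype_injective).1 h1

theorem szSections (hG : ThreePrime72.Min G) {X : Subgroup G} (hX : X ≠ ⊤) : SzSections ↥X := by
  intro K N' _ hs hnc
  haveI := hs
  have h1 : Nat.card (↥K ⧸ N') ∣ Nat.card ↥X :=
    (card_quotient_dvd_card N').trans (card_subgroup_dvd_card K)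
  refine hG.ind _ (lt_of_le_of_lt (Nat.le_of_dvd Nat.card_pos h1) ?_) hnc
    fun h => hG.three ((h.trans h1).trans (card_subgroup_dvd_card X))
  exact lt_of_le_of_ne (Nat.le_of_dvd Nat.card_pos (card_subgroup_dvd_card X))
    fun e => hX (eq_top_of_card_eq X e)

theorem component_isoSuzuki {X : Type u} [Group X] [Finite X] (hX : SzSections X) {K : Subgroup X}
    (hK : Cfsg.IsComponent K) : Cfsg.Lie.IsoSuzuki (↥K ⧸ center ↥K) := by
  refine hX K (center ↥K) hK.2.2 ?_
  by_contra hc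
  push Not at hc
  haveI hX : Group.IsSolvable (↥K ⧸ center ↥K) := Group.isSolvable_of_comm hc
  haveI : Group.IsSolvable (center ↥K) :=
    Group.isSolvable_of_comm fun a b => Subtype.ext (mem_center_iff.1 b.2 a)
  exact Components.component_not_isSolvable hK
    (Group.isSolvable_of_ker_le_range (center ↥K).subtype (QuotientGroup.mk' (center ↥K)) (by simp))

theorem elem_subgroupOf (h : Setup S A) (X : Subgroup G) :
    Cfsg.IsElementaryAbelian 2 (A.subgroupOf X) :=
  ⟨⟨⟨fun x y => Subtype.ext (Subtype.ext (PN72.elem_comm h.elem x.2 y.2))⟩⟩,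
    fun x hx => Subtype.ext (h.elem.2 _ hx)⟩

theorem freeOn_subgroupOf (h : Setup S A) {X : Subgroup G} (hAX : A ≤ X) :
    FreeOn (A.subgroupOf X) := by
  intro E hEn hEsq hEc
  have hmap : ∀ B : Subgroup ↥X, Nat.card ↥(B.map X.subtype) = Nat.card ↥B := fun B =>
    card_map_of_injective X.subtype_injective
  have hA : (A.subgroupOf X).map X.subtype = A := map_subgroupOf_eq_of_le hAX
  have key := h.free (E.map X.subtype) ?_ ?_ ?_
  · have e1 : (A.subgroupOf X ⊓ centralizer (E : Set ↥X)).map X.subtype =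
        A ⊓ centralizer ((E.map X.subtype : Subgroup G) : Set G) := by
      ext x
      constructor
      · rintro ⟨y, ⟨hy1, hy2⟩, rfl⟩
        refine ⟨hy1, mem_centralizer_iff.2 ?_⟩
        rintro _ ⟨e, he, rfl⟩
        exact congrArg Subtype.val (mem_centralizer_iff.1 hy2 e he)
      · rintro ⟨hx1, hx2⟩
        refine ⟨⟨x, hAX hx1⟩, ⟨hx1, mem_centralizer_iff.2 fun e he => Subtype.ext ?_⟩, rfl⟩
        exact mem_centralizer_iff.1 hx2 (e : G) ⟨e, he, rfl⟩
    have e2 : (E ⊓ centralizer (A.subgroupOf X : Set ↥X)).map X.subtype =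
        E.map X.subtype ⊓ centralizer (A : Set G) := by
      ext x
      constructor
      · rintro ⟨y, ⟨hy1, hy2⟩, rfl⟩
        refine ⟨⟨y, hy1, rfl⟩, mem_centralizer_iff.2 fun a ha => ?_⟩
        exact congrArg Subtype.val (mem_centralizer_iff.1 hy2 ⟨a, hAX ha⟩ ha)
      · rintro ⟨⟨y, hy, rfl⟩, hx2⟩
        exact ⟨y, ⟨hy, mem_centralizer_iff.2 fun a ha =>
          Subtype.ext (mem_centralizer_iff.1 hx2 a ha)⟩, rfl⟩
    have hA' : Nat.card ↥(A.subgroupOf X) = Nat.card ↥A :=
      Nat.card_congr (subgroupOfEquivOfLe hAX).toEquiv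
    rw [← hmap E, ← hmap (A.subgroupOf X ⊓ _), ← hmap (E ⊓ _), e1, e2, hA']
    exact key
  · rintro _ ⟨e, he, rfl⟩
    refine mem_normalizer_iff.2 fun a => ?_
    have h1 := fun a' : ↥X => mem_normalizer_iff.1 (hEn he) a'
    constructor
    · intro ha
      exact (h1 ⟨a, hAX ha⟩).1 ha
    · intro ha
      have haX : a ∈ X := by
        have h2 := mul_mem (mul_mem (inv_mem e.2) (hAX ha)) e.2
        simpa [mul_assoc] using h2
      exact (h1 ⟨a, haX⟩).2 ha
  · rintro _ ⟨e, he, rfl⟩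
    exact mem_centralizer_iff.2 fun a ha =>
      congrArg Subtype.val (mem_centralizer_iff.1 (hEsq e he) ⟨a, hAX ha⟩ ha)
  · intro hle
    refine hEc fun e he => mem_centralizer_iff.2 fun a ha => Subtype.ext ?_
    exact mem_centralizer_iff.1 (hle ⟨e, he, rfl⟩) a ha

/-- The hypotheses in the centralizer of an element of `A#`. -/
theorem exists_kHyp (hG : ThreePrime72.Min G) (h : Setup S A) (hW : W A = ⊥) {a : G} (ha : a ∈ A)
    (ha1 : a ≠ 1) :
    ∃ T : Sylow 2 ↥(centralizer ({a} : Set G)),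
      KHyp T (A.subgroupOf (centralizer ({a} : Set G))) := by
  have hAX := le_centralizer_of_mem h ha
  obtain ⟨T, hAT, hTA⟩ := h.exists_sylow hAX
  refine ⟨T, szSections hG (hG.centralizer_ne_top ha1),
    fun h3 => hG.three (h3.trans (card_subgroup_dvd_card _)), core_centralizer hW ha ha1,
    elem_subgroupOf h _, fun x hx => ?_, fun x hx g hg => ?_⟩
  · obtain ⟨t, ht, hte⟩ := hAT hx
    exact (Subtype.ext hte : t = x) ▸ ht
  · exact h.strong (T.isPGroup'.map (centralizer ({a} : Set G)).subtype) hTA hx ⟨_, hg, rfl⟩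

/-- A moved component is normalized by `A` and has trivial centre; every component is normalized. -/
theorem components_spec (hK : KSecStmt.{u}) (hG : ThreePrime72.Min G) (h : Setup S A)
    (hW : W A = ⊥) {a : G} (ha : a ∈ A) (ha1 : a ≠ 1)
    {L : Subgroup ↥(centralizer ({a} : Set G))} (hL : Cfsg.IsComponent L) :
    A.subgroupOf (centralizer ({a} : Set G)) ≤ normalizer (L : Set ↥(centralizer ({a} : Set G))) ∧
      (¬ A.subgroupOf (centralizer ({a} : Set G)) ≤
          centralizer (L : Set ↥(centralizer ({a} : Set G))) → center ↥L = ⊥) := by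
  obtain ⟨T, hT⟩ := exists_kHyp hG h hW ha ha1
  obtain ⟨hn, -, -, hdat⟩ := hK _ T _ hT
  refine ⟨?_, fun hc => ?_⟩
  · by_cases hc : A.subgroupOf (centralizer ({a} : Set G)) ≤
        centralizer (L : Set ↥(centralizer ({a} : Set G)))
    · exact hc.trans (centralizer_le_normalizer _)
    · exact hn L ⟨hL, hc⟩
  · obtain ⟨U, n, -, -, -, -, -, -, -, -, hfree⟩ := hdat L ⟨hL, hc⟩
    exact (hfree (freeOn_subgroupOf h (le_centralizer_of_mem h ha))).1

/-- The block data. -/
theorem IsBlock.data (hK : KSecStmt.{u}) (hG : ThreePrime72.Min G) (h : Setup S A) (hW : W A = ⊥)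
    {L : Subgroup G} (hL : IsBlock A L) :
    (∃ f : ℕ, Odd f ∧ 3 ≤ f ∧ Nat.card ↥(A ⊓ L) = 2 ^ f) ∧
      A ⊓ L ⊓ (A ⊓ centralizer (L : Set G)) = ⊥ ∧
      (∀ x ∈ A, ∃ v ∈ A ⊓ L, ∃ r ∈ A ⊓ centralizer (L : Set G), v * r = x) ∧
      ∃ t : G, t ∈ normalizer (A : Set G) ∧
        (∀ r ∈ A ⊓ centralizer (L : Set G), t * r = r * t) ∧
        (∀ v ∈ A ⊓ L, t * v * t⁻¹ ∈ A ⊓ L) ∧
        ∀ v ∈ A ⊓ L, ∀ w ∈ A ⊓ L, v ≠ 1 → w ≠ 1 → ∃ j : ℕ, t ^ j * v * (t ^ j)⁻¹ = w := by
  classical
  obtain ⟨a, ha, ha1, hLC, hcomp, hmov⟩ := hL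
  set X := centralizer ({a} : Set G) with hX
  have hAX := le_centralizer_of_mem h ha
  obtain ⟨T, hT⟩ := exists_kHyp hG h hW ha ha1
  set L' := L.subgroupOf X with hL'
  have hmov' : ¬ A.subgroupOf X ≤ centralizer (L' : Set ↥X) := fun hc =>
    hmov ((subgroupOf_le_centralizer_iff hAX hLC).1 hc)
  have hZ := (components_spec hK hG h hW ha ha1 hcomp).2 hmov'
  obtain ⟨t, V, f, htK, -, htA, hVle, hf, hf3, hcard, hVc, hsplit, htV, htR, htj, -⟩ :=
    ThreePrime82.component_torus hT.core T hT.sc hT.elem hcomp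
      (component_isoSuzuki hT.sec hcomp) hmov'
  have hdisj : ∀ x ∈ A, x ∈ L → x ∈ centralizer (L : Set G) → x = 1 := by
    intro x _ hxL hxc
    have h1 : (⟨⟨x, hLC hxL⟩, hxL⟩ : ↥L') ∈ center ↥L' := by
      rw [mem_center_iff]
      intro z
      exact Subtype.ext (Subtype.ext (mem_centralizer_iff.1 hxc (z : ↥X) z.2))
    rw [hZ, mem_bot] at h1
    exact congrArg (fun z : ↥L' => ((z : ↥X) : G)) h1
  have hVA : V.map X.subtype = A ⊓ L := by
    refine le_antisymm ?_ ?_
    · rintro _ ⟨v, hv, rfl⟩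
      exact mem_inf.2 ⟨(hVle hv).1, (hVle hv).2⟩
    · intro x hx
      obtain ⟨v, hv, r, hr, hvr⟩ := hsplit ⟨x, hAX hx.1⟩ hx.1
      have hre : (r : G) = (v : G)⁻¹ * x := by
        rw [eq_inv_mul_iff_mul_eq]
        exact congrArg Subtype.val hvr
      have hrL : (r : G) ∈ L := hre ▸ mul_mem (inv_mem (hVle hv).2) hx.2
      have hr1 : (r : G) = 1 := hdisj _ hr.1 hrL
        (mem_centralizer_iff.2 fun l hl =>
          congrArg Subtype.val (mem_centralizer_iff.1 hr.2 ⟨l, hLC hl⟩ hl))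
      refine ⟨v, hv, ?_⟩
      have h2 := congrArg Subtype.val hvr
      simpa [hr1] using h2
  have hmemV : ∀ x : ↥X, x ∈ V ↔ (x : G) ∈ A ⊓ L := fun x => by
    rw [← hVA]
    exact ⟨fun hx => ⟨x, hx, rfl⟩, fun ⟨y, hy, he⟩ => (Subtype.ext he : y = x) ▸ hy⟩
  refine ⟨⟨f, hf, hf3, ?_⟩, ?_, fun x hx => ?_, (t : G), ?_, fun r hr => ?_, fun v hv => ?_,
    fun v hv w hw hv1 hw1 => ?_⟩
  · rw [← hVA, card_map_of_injective X.subtype_injective, hcard]
  · rw [eq_bot_iff]
    rintro x ⟨⟨hxA, hxL⟩, -, hxc⟩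
    exact mem_bot.2 (hdisj x hxA hxL hxc)
  · obtain ⟨v, hv, r, hr, hvr⟩ := hsplit ⟨x, hAX hx⟩ hx
    exact ⟨v, (hmemV v).1 hv, r, ⟨hr.1, mem_centralizer_iff.2 fun l hl =>
      congrArg Subtype.val (mem_centralizer_iff.1 hr.2 ⟨l, hLC hl⟩ hl)⟩,
      congrArg Subtype.val hvr⟩
  · refine mem_normalizer_iff.2 fun x => ⟨fun hx => ?_, fun hx => ?_⟩
    · exact (mem_normalizer_iff.1 htA ⟨x, hAX hx⟩).1 hx
    · have hxX : x ∈ X := by
        have h1 := mul_mem (mul_mem (inv_mem t.2) (hAX hx)) t.2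
        rwa [show (t : G)⁻¹ * ((t : G) * x * (t : G)⁻¹) * t = x by group] at h1
      exact (mem_normalizer_iff.1 htA ⟨x, hxX⟩).2 hx
  · exact congrArg Subtype.val (htR ⟨r, hAX hr.1⟩
      ⟨hr.1, mem_centralizer_iff.2 fun l hl => Subtype.ext (mem_centralizer_iff.1 hr.2 l hl)⟩)
  · exact (hmemV _).1 ((mem_normalizer_iff.1 htV ⟨v, hAX hv.1⟩).1 ((hmemV _).2 hv))
  · obtain ⟨j, hj⟩ := htj ⟨v, hAX hv.1⟩ ((hmemV _).2 hv) ⟨w, hAX hw.1⟩ ((hmemV _).2 hw)
      (fun e => hv1 (congrArg Subtype.val e)) (fun e => hw1 (congrArg Subtype.val e))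
    exact ⟨j, by simpa using congrArg Subtype.val hj⟩

/-- A block lies in the layer of the centralizer of every element centralizing it. -/
theorem IsBlock.component_of_centralizes (hK : KSecStmt.{u}) (hG : ThreePrime72.Min G)
    (h : Setup S A) (hW : W A = ⊥) {L : Subgroup G} (hL : IsBlock A L) {b : G} (hb : b ∈ A)
    (hb1 : b ≠ 1) (hbL : b ∈ centralizer (L : Set G)) :
    L ≤ centralizer ({b} : Set G) ∧
      Cfsg.IsComponent (L.subgroupOf (centralizer ({b} : Set G))) := by
  classical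
  haveI : Fact (Nat.Prime 2) := ⟨Nat.prime_two⟩
  have hLb : L ≤ centralizer ({b} : Set G) := fun l hl =>
    mem_centralizer_singleton_iff.2 (mem_centralizer_iff.1 hbL l hl)
  refine ⟨hLb, ?_⟩
  obtain ⟨⟨f, -, hf3, hcard⟩, -, -, -⟩ := hL.data hK hG h hW
  obtain ⟨a, ha, ha1, hLa, hcomp, hmov⟩ := hL
  set Y := centralizer ({b} : Set G) with hY
  set C := centralizer ({a} : Set G) with hC
  set H := C ⊓ Y with hH
  have hLH : L ≤ H := le_inf hLa hLb
  have hcompH : Cfsg.IsComponent (L.subgroupOf H) :=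
    (Components.componentIn_subgroupOf_iff (inf_le_left : H ≤ C)).1
      (Components.component_subgroupOf hcomp fun x hx => hLH hx)
  set a' : ↥Y := ⟨a, le_centralizer_of_mem h hb ha⟩ with ha'
  have hHY : H.subgroupOf Y = centralizer ({a'} : Set ↥Y) := by
    ext x
    rw [mem_subgroupOf, mem_centralizer_singleton_iff]
    constructor
    · intro hx
      exact Subtype.ext (mem_centralizer_singleton_iff.1 (mem_inf.1 hx).1)
    · intro hx
      exact mem_inf.2 ⟨mem_centralizer_singleton_iff.2 (congrArg Subtype.val hx), x.2⟩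
  set L'' := L.subgroupOf Y with hL''
  have hcompY : Cfsg.IsComponent (L''.subgroupOf (centralizer ({a'} : Set ↥Y))) := by
    rw [← hHY]
    exact (Components.componentIn_subgroupOf_iff (inf_le_right : H ≤ Y)).2 hcompH
  have ha2 : a' * a' = 1 := Subtype.ext (h.sq ha)
  have hL''C : L'' ≤ centralizer ({a'} : Set ↥Y) := fun x hx =>
    mem_centralizer_singleton_iff.2 (Subtype.ext (mem_centralizer_singleton_iff.1 (hLa hx)))
  have hcore := core_centralizer hW hb hb1
  have hLlay : L'' ≤ Cfsg.layer ↥Y := by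
    have hT : IsPGroup 2 ↥(zpowers a') := IsPGroup.of_card (n := 1) (by
      rw [Nat.card_zpowers, pow_one]
      exact orderOf_eq_prime (by rw [pow_two, ha2]) fun e => ha1 (congrArg Subtype.val e))
    have hTC : centralizer (zpowers a' : Set ↥Y) = centralizer ({a'} : Set ↥Y) := by
      rw [zpowers_eq_closure, centralizer_closure]
    have hd : 2 ∣ Nat.card ↥(L''.subgroupOf (centralizer (zpowers a' : Set ↥Y))) := by
      rw [hTC, Nat.card_congr (subgroupOfEquivOfLe hL''C).toEquiv, hL'',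
        Nat.card_congr (subgroupOfEquivOfLe hLb).toEquiv]
      exact ((dvd_pow_self 2 (by omega : f ≠ 0)).trans (dvd_of_eq hcard.symm)).trans
        (card_dvd_of_le inf_le_right)
    rw [← hTC] at hcompY
    have h1 := Subgroup.map_mono (f := (centralizer (zpowers a' : Set ↥Y)).subtype)
      (Components.component_le_pLayer (p := 2) hcompY hd)
    rw [Subgroup.map_subgroupOf_eq_of_le (hTC.symm ▸ hL''C)] at h1
    refine h1.trans ((Components.map_pLayer_centralizer_le Components.zStarProperty _ hT).trans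
      (Components.pLayer_le_layer_of_commutator_eq_bot ?_))
    rw [hY, hcore, commutator_bot_right]
  obtain ⟨L1, hL1, hle⟩ :=
    Components.exists_component_of_componentIn ha2 hL''C hcompY hLlay
  have haN : a' ∈ normalizer (L1 : Set ↥Y) :=
    (components_spec hK hG h hW hb hb1 hL1).1 (show a' ∈ A.subgroupOf Y from ha)
  rcases hle with hle | ⟨hmove, -⟩
  swap
  · exact absurd (Components.map_conj_eq_iff_mem_normalizer.2 haN) hmove
  suffices hca : a' ∈ centralizer (L1 : Set ↥Y) by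
    have hL1C : L1 ≤ centralizer ({a'} : Set ↥Y) := fun x hx =>
      mem_centralizer_singleton_iff.2 (mem_centralizer_iff.1 hca x hx)
    have heq := Components.component_eq_of_le hcompY (Components.component_subgroupOf hL1 hL1C)
      fun x hx => hle hx
    have heq' := congrArg (Subgroup.map (centralizer ({a'} : Set ↥Y)).subtype) heq
    rw [map_subgroupOf_eq_of_le hL''C, map_subgroupOf_eq_of_le hL1C] at heq'
    rw [heq']
    exact hL1
  by_contra hca
  have hmov1 : ¬ A.subgroupOf Y ≤ centralizer (L1 : Set ↥Y) := fun hc =>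
    hca (hc (show a' ∈ A.subgroupOf Y from ha))
  have hZ := (components_spec hK hG h hW hb hb1 hL1).2 hmov1
  obtain ⟨T, hT⟩ := exists_kHyp hG h hW hb hb1
  have hSz := component_isoSuzuki hT.sec hL1
  obtain ⟨-, V, -, -, -, -, hVle, -, -, -, hVc, hsplit, -⟩ :=
    ThreePrime82.component_torus hT.core T hT.sc hT.elem hL1 hSz hmov1
  obtain ⟨v, hv, r, hr, hvr⟩ := hsplit a' ha
  have hv1 : v ≠ 1 := fun e => hca (by rw [← hvr, e, one_mul]; exact hr.2)
  set π := QuotientGroup.mk' (center ↥L1) with hπ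
  set v₀ : ↥L1 := ⟨v, (hVle hv).2⟩ with hv₀
  have hv₀1 : π v₀ ≠ 1 := fun e => by
    have h1 : v₀ ∈ center ↥L1 := (QuotientGroup.eq_one_iff _).1 e
    rw [hZ, mem_bot] at h1
    exact hv1 (congrArg Subtype.val h1)
  have hv2 : orderOf (π v₀) = 2 := by
    refine orderOf_eq_prime ?_ hv₀1
    rw [← map_pow, show v₀ ^ 2 = 1 from Subtype.ext (hT.elem.2 _ (hVle hv).1), map_one]
  have htwo := (ThreePrime82.balData_of_isoSuzuki hSz).two _ hv2
  haveI : Group.IsSolvable ↥L'' := by
    have hp : IsPGroup 2 ↥L'' := by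
      rintro ⟨x, hx⟩
      set x₀ : ↥L1 := ⟨x, hle hx⟩ with hx₀
      have hc : x * v = v * x := by
        have h1 : x * a' = a' * x := mem_centralizer_singleton_iff.1 (hL''C hx)
        have h2 : x * r = r * x := mem_centralizer_iff.1 hr.2 x (hle hx)
        rw [← hvr] at h1
        calc x * v = x * (v * r) * r⁻¹ := by group
          _ = v * (r * x) * r⁻¹ := by rw [h1]; group
          _ = v * (x * r) * r⁻¹ := by rw [h2]
          _ = v * x := by group
      have hmem : π x₀ ∈ centralizer ({π v₀} : Set (↥L1 ⧸ center ↥L1)) := by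
        rw [mem_centralizer_singleton_iff, ← map_mul, ← map_mul]
        exact congrArg π (Subtype.ext hc)
      obtain ⟨i, hi⟩ := htwo ⟨_, hmem⟩
      refine ⟨i, Subtype.ext ?_⟩
      have h1 : x₀ ^ 2 ^ i ∈ center ↥L1 := (QuotientGroup.eq_one_iff _).1 (by
        show π (x₀ ^ 2 ^ i) = 1
        rw [map_pow]
        exact congrArg Subtype.val hi)
      rw [hZ, mem_bot] at h1
      simpa [hx₀] using congrArg Subtype.val h1
    haveI := hp.isNilpotent
    infer_instance
  have hq := Components.isQuasisimple_of_componentIn hL''C hcompY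
  exact Components.not_isSolvable_of_isQuasisimple hq inferInstance

/-- Two blocks centralized by a common element of `A#` are equal or commute. -/
theorem IsBlock.eq_or_commute (hK : KSecStmt.{u}) (hG : ThreePrime72.Min G) (h : Setup S A)
    (hW : W A = ⊥) {L L' : Subgroup G} (hL : IsBlock A L) (hL' : IsBlock A L')
    (hne : A ⊓ centralizer (L : Set G) ⊓ (A ⊓ centralizer (L' : Set G)) ≠ ⊥) :
    L = L' ∨ L ≤ centralizer (L' : Set G) := by
  obtain ⟨b, ⟨⟨hbA, hbL⟩, -, hbL'⟩, hb1⟩ :=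
    (Subgroup.bot_or_exists_ne_one _).resolve_left hne
  obtain ⟨h1, h2⟩ := hL.component_of_centralizes hK hG h hW hbA hb1 hbL
  obtain ⟨h1', h2'⟩ := hL'.component_of_centralizes hK hG h hW hbA hb1 hbL'
  exact (Components.componentIn_eq_or_commutator_eq_bot h1 h1' h2 h2').imp id
    commutator_eq_bot_iff_le_centralizer.1

end Cfsg.Agent.ThreePrime56
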